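import Cfsg.Agent.Lib.FiniteGroup.FrattiniAut
import Mathlib.GroupTheory.PGroup
import Mathlib.GroupTheory.Index

/-!
An automorphism `q` of order dividing `3` of an elementary abelian `2`-group `M` moving only a
four-group `V = [M, q]`: a `q`-invariant odd abelian group of exponent `r` (or a `p`-group, `p ≥ 5`)
of automorphisms has a subgroup of index at most `r` (at most `p`) centralizing `V`.
-/

set_option autoImplicit false
set_option linter.style.haveILetI false

namespace Cfsg.Agent.FGStruct.FourMove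

variable {M : Type*} [CommGroup M] [Finite M]

theorem finite_mulAut : Finite (MulAut M) :=
  Finite.of_injective (fun f => (f : M → M)) DFunLike.coe_injective

/-- `x ↦ q x * x⁻¹`. -/
def mv (q : MulAut M) : M →* M := q.toMonoidHom * (MonoidHom.id M)⁻¹

omit [Finite M] in
theorem mv_apply (q : MulAut M) (x : M) : mv q x = q x * x⁻¹ := rfl

/-- The hypotheses on `q`. -/
structure Small (q : MulAut M) : Prop where
  exp : ∀ x : M, x * x = 1
  q3 : q ^ 3 = 1
  card : Nat.card (mv q).range = 4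

/-- The fixed points of a group of automorphisms. -/
def fixed (K : Subgroup (MulAut M)) : Subgroup M where
  carrier := {x | ∀ k ∈ K, k x = x}
  one_mem' := fun k _ => map_one k
  mul_mem' := fun {a b} ha hb k hk => by rw [map_mul, ha k hk, hb k hk]
  inv_mem' := fun {a} ha k hk => by rw [map_inv, ha k hk]

omit [Finite M] in
theorem fixed_antitone {K L : Subgroup (MulAut M)} (h : K ≤ L) : fixed L ≤ fixed K :=
  fun _ hx k hk => hx k (h hk)

omit [Finite M] in
theorem eq_one_of_sq {x : M} (hexp : ∀ x : M, x * x = 1) {n : ℕ} (hn : Odd n) (h : x ^ n = 1) :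
    x = 1 := by
  obtain ⟨m, rfl⟩ := hn
  rwa [pow_succ, pow_mul, sq, hexp, one_pow, one_mul] at h

namespace Small

variable {q : MulAut M} (hS : Small q)
include hS

omit [Finite M] in
theorem inv_eq (x : M) : x⁻¹ = x := inv_eq_of_mul_eq_one_left (hS.exp x)

omit [Finite M] in
theorem q3_apply (x : M) : q (q (q x)) = x := by
  have h := congrArg (fun f : MulAut M => f x) hS.q3
  simpa [pow_succ] using h

omit hS [Finite M] in
theorem range_stable {v : M} (hv : v ∈ (mv q).range) : q v ∈ (mv q).range := by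
  obtain ⟨x, rfl⟩ := hv
  exact ⟨q x, by rw [mv_apply, mv_apply, map_mul, map_inv]⟩

omit [Finite M] in
theorem eq_one_of_fixed {v : M} (hv : v ∈ (mv q).range) (h : q v = v) : v = 1 := by
  obtain ⟨y, rfl⟩ := hv
  rw [mv_apply, map_mul, map_inv, hS.inv_eq, hS.inv_eq] at h
  have h1 : q (q y) = y := mul_right_cancel (h.trans (mul_comm _ _))
  have h2 : y = q y := by
    have h3 := congrArg q h1
    rwa [hS.q3_apply] at h3
  rw [mv_apply, ← h2, mul_inv_cancel]

theorem sub_dichotomy {W : Subgroup M} (hW : W ≤ (mv q).range) (hq : ∀ w ∈ W, q w ∈ W) :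
    W = ⊥ ∨ W = (mv q).range := by
  rcases eq_or_ne W ⊥ with h | h
  · exact Or.inl h
  refine Or.inr (Subgroup.eq_of_le_of_card_ge hW ?_)
  rw [hS.card]
  obtain ⟨⟨w, hw⟩, hw1⟩ := Subgroup.ne_bot_iff_exists_ne_one.1 h
  have hw1' : w ≠ 1 := fun h => hw1 (Subtype.ext h)
  have hne : q w ≠ w := fun h => hw1' (hS.eq_one_of_fixed (hW hw) h)
  have h3 : 3 ≤ Nat.card W := by
    have h := Nat.card_le_card_of_injective (![(⟨1, W.one_mem⟩ : W), ⟨w, hw⟩, ⟨q w, hq w hw⟩]) ?_
    · simpa using h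
    · intro i j hij
      have hqw : q w ≠ 1 := fun h => hw1' (by simpa using congrArg q.symm h)
      fin_cases i <;> fin_cases j <;>
        first | rfl |
          (exfalso; simp [Subtype.ext_iff, hw1', hne, hqw, Ne.symm hw1', Ne.symm hne, Ne.symm hqw] at hij)
  have hdvd : Nat.card W ∣ 4 := hS.card ▸ Subgroup.card_dvd_of_le hW
  rcases Nat.le_of_dvd (by norm_num) hdvd |>.lt_or_eq with h4 | h4
  · interval_cases h : Nat.card W
    norm_num at hdvd
  · exact h4.ge

end Small

section Avg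

variable {q : MulAut M}

/-- The product over a group of automorphisms. -/
noncomputable def avg (N : Subgroup (MulAut M)) : M →* M :=
  haveI := finite_mulAut (M := M)
  haveI := Fintype.ofFinite N
  ∏ n : N, ((n : MulAut M) : M ≃* M).toMonoidHom

theorem avg_apply (N : Subgroup (MulAut M)) [Fintype N] (x : M) : avg N x = ∏ n : N, (n : MulAut M) x := by
  rw [avg, MonoidHom.finset_prod_apply]
  congr
  exact Subsingleton.elim _ _

theorem avg_mem_fixed (N : Subgroup (MulAut M)) (x : M) : avg N x ∈ fixed N := by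
  haveI := finite_mulAut (M := M)
  letI := Fintype.ofFinite N
  intro k hk
  rw [avg_apply, map_prod]
  exact Fintype.prod_equiv (Equiv.mulLeft (⟨k, hk⟩ : N)) _ _ fun n => rfl

theorem avg_eq_self (hexp : ∀ x : M, x * x = 1) {N : Subgroup (MulAut M)} (hodd : Odd (Nat.card N))
    {x : M} (hx : x ∈ fixed N) : avg N x = x := by
  haveI := finite_mulAut (M := M)
  letI := Fintype.ofFinite N
  rw [avg_apply, Finset.prod_congr rfl (fun (n : N) _ => hx (n : MulAut M) n.2), Finset.prod_const, Finset.card_univ,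
    ← Nat.card_eq_fintype_card]
  obtain ⟨m, hm⟩ := hodd
  rw [hm, pow_succ, pow_mul, sq, hexp, one_pow, one_mul]

theorem avg_comm {N : Subgroup (MulAut M)} {g : MulAut M} (hg : ∀ n ∈ N, g * n * g⁻¹ ∈ N) (x : M) :
    g (avg N x) = avg N (g x) := by
  haveI := finite_mulAut (M := M)
  letI := Fintype.ofFinite N
  have hinj : Function.Injective (fun n : N => (⟨g * n * g⁻¹, hg n n.2⟩ : N)) := fun a b h => by
    have h1 := congrArg Subtype.val h
    exact Subtype.ext (mul_left_cancel (mul_right_cancel h1))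
  rw [avg_apply, avg_apply, map_prod]
  exact Fintype.prod_bijective _ hinj.bijective_of_finite _ _ fun n =>
    congrArg (fun y => g ((n : MulAut M) y)) (g.symm_apply_apply x).symm

/-- A `q`-invariant group of odd order centralizes `V` or fixes nothing of `V` on average. -/
theorem avg_dichotomy (hS : Small q) {N : Subgroup (MulAut M)} (hodd : Odd (Nat.card N))
    (hq : ∀ n ∈ N, q * n * q⁻¹ ∈ N) :
    (mv q).range ≤ fixed N ∨ ∀ v ∈ (mv q).range, avg N v = 1 := by
  have hcomm := avg_comm (N := N) hq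
  have hstab : ∀ v ∈ (mv q).range, avg N v ∈ (mv q).range := by
    rintro _ ⟨x, rfl⟩
    exact ⟨avg N x, by rw [mv_apply, mv_apply, map_mul (avg N), map_inv (avg N), hcomm]⟩
  rcases hS.sub_dichotomy (W := (mv q).range ⊓ (avg N).ker) inf_le_left
      (fun w hw => ⟨Small.range_stable hw.1, by
        show avg N (q w) = 1
        rw [← hcomm, MonoidHom.mem_ker.1 hw.2, map_one]⟩) with h | h
  · left
    have hinj : Function.Injective (fun v : (mv q).range => (⟨avg N v, hstab v v.2⟩ : (mv q).range)) := by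
      intro a b hab
      have h1 : avg N a = avg N b := congrArg Subtype.val hab
      have h2 : (a : M) * (b : M)⁻¹ ∈ (mv q).range ⊓ (avg N).ker :=
        ⟨(mv q).range.mul_mem a.2 ((mv q).range.inv_mem b.2), by
          show avg N ((a : M) * (b : M)⁻¹) = 1
          rw [map_mul, map_inv, h1, mul_inv_cancel]⟩
      rw [h, Subgroup.mem_bot] at h2
      exact Subtype.ext (mul_inv_eq_one.1 h2)
    intro v hv
    obtain ⟨w, hw⟩ := hinj.bijective_of_finite.2 ⟨v, hv⟩
    rw [show v = avg N w from (congrArg Subtype.val hw).symm]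
    exact avg_mem_fixed N _
  · exact Or.inr fun v hv => MonoidHom.mem_ker.1 (h.ge hv).2

end Avg

/-- The subgroup generated by the images of `V` under `E`. -/
def orb (E : Subgroup (MulAut M)) (V : Subgroup M) : Subgroup M :=
  Subgroup.closure {x | ∃ e ∈ E, ∃ v ∈ V, e v = x}

omit [Finite M] in
theorem le_orb (E : Subgroup (MulAut M)) (V : Subgroup M) : V ≤ orb E V :=
  fun v hv => Subgroup.subset_closure ⟨1, E.one_mem, v, hv, rfl⟩

omit [Finite M] in
theorem orb_stable {E : Subgroup (MulAut M)} {V : Subgroup M} {g : MulAut M}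
    (hg : ∀ e ∈ E, ∀ v ∈ V, g (e v) ∈ orb E V) {x : M} (hx : x ∈ orb E V) : g x ∈ orb E V := by
  refine (Subgroup.closure_le ((orb E V).comap (g : M ≃* M).toMonoidHom)).2 ?_ hx
  rintro _ ⟨e, he, v, hv, rfl⟩
  exact hg e he v hv

omit [Finite M] in
theorem orb_stable_mem {E : Subgroup (MulAut M)} {V : Subgroup M} {g : MulAut M} (hg : g ∈ E) {x : M}
    (hx : x ∈ orb E V) : g x ∈ orb E V :=
  orb_stable (fun e he v hv => Subgroup.subset_closure ⟨g * e, E.mul_mem hg he, v, hv, rfl⟩) hx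

omit [Finite M] in
theorem orb_stable_q {E : Subgroup (MulAut M)} {q : MulAut M} (hq : ∀ e ∈ E, q * e * q⁻¹ ∈ E)
    {x : M} (hx : x ∈ orb E (mv q).range) : q x ∈ orb E (mv q).range :=
  orb_stable (fun e he v hv => Subgroup.subset_closure
    ⟨q * e * q⁻¹, hq e he, q v, Small.range_stable hv, congrArg (fun y => q (e y)) (q.symm_apply_apply v)⟩) hx

/-- The product over the powers of `g`. -/
def powSum (r : ℕ) (g : MulAut M) (w : M) : M := ∏ j ∈ Finset.range r, (g ^ j) w

omit [Finite M] in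
theorem powSum_fixed {r : ℕ} {g : MulAut M} (hg : g ^ r = 1) (w : M) :
    g (powSum r g w) = powSum r g w := by
  have h1 : ∏ j ∈ Finset.range r, (g ^ (j + 1)) w = powSum r g w := by
    have h2 := Finset.prod_range_succ' (fun j => (g ^ j) w) r
    have h3 := Finset.prod_range_succ (fun j => (g ^ j) w) r
    rw [h3] at h2
    simp only [hg, pow_zero] at h2
    exact (mul_right_cancel h2).symm
  rw [powSum, map_prod]
  conv_rhs => rw [← powSum, ← h1]
  exact Finset.prod_congr rfl fun j _ => by rw [pow_succ', MulAut.mul_apply]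

/-- An abelian exponent `r` group normalised by `q` has a subgroup of index at most `r` centralizing `V`. -/
theorem exists_hyperplane {q : MulAut M} (hS : Small q) {r : ℕ} (hr : r.Prime) (hr2 : r ≠ 2)
    (E : Subgroup (MulAut M)) (hcomm : ∀ a ∈ E, ∀ b ∈ E, a * b = b * a) (hexp : ∀ e ∈ E, e ^ r = 1)
    (hq : ∀ e ∈ E, q * e * q⁻¹ ∈ E) :
    ∃ K ≤ E, Nat.card E ≤ r * Nat.card K ∧ (mv q).range ≤ fixed K := by
  haveI := finite_mulAut (M := M)
  haveI := Fact.mk hr
  have hrodd : Odd r := hr.odd_of_ne_two hr2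
  have hE : IsPGroup r E := fun e => ⟨1, by rw [pow_one]; exact Subtype.ext (hexp e e.2)⟩
  have hodd : ∀ L : Subgroup (MulAut M), L ≤ E → Odd (Nat.card L) := fun L hL => by
    obtain ⟨n, hn⟩ := IsPGroup.iff_card.1 (hE.to_le hL)
    exact hn ▸ hrodd.pow
  set V := (mv q).range with hV
  rcases avg_dichotomy hS (hodd E le_rfl) hq with h | havg
  · exact ⟨E, le_rfl, Nat.le_mul_of_pos_left _ hr.pos, h⟩
  set U := orb E V with hU
  have hkill : ∀ L : Subgroup (MulAut M), L ≤ E → (∀ v ∈ V, avg L v = 1) → U ⊓ fixed L = ⊥ := by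
    intro L hL hLV
    rw [eq_bot_iff]
    intro x hx
    have h1 : avg L x = 1 := by
      refine (Subgroup.closure_le (avg L).ker).2 ?_ hx.1
      rintro _ ⟨e, he, v, hv, rfl⟩
      rw [SetLike.mem_coe, MonoidHom.mem_ker, ← avg_comm (fun n hn => ?_), hLV v hv, map_one]
      rw [hcomm e he n (hL hn), mul_inv_cancel_right]
      exact hn
    rw [Subgroup.mem_bot, ← avg_eq_self hS.exp (hodd L hL) hx.2, h1]
  have hUE : U ⊓ fixed E = ⊥ := hkill E le_rfl havg
  have hVne : V ≠ ⊥ := fun h => by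
    have := hS.card
    rw [← hV, h, Subgroup.card_bot] at this
    norm_num at this
  obtain ⟨K, -, hK⟩ := Finite.exists_le_maximal (a := (⊥ : Subgroup (MulAut M)))
    (p := fun L : Subgroup (MulAut M) => L ≤ E ∧ U ⊓ fixed L ≠ ⊥)
    ⟨bot_le, fun h => hVne (le_bot_iff.1 (h ▸ le_inf (le_orb E V) (fun v _ k hk => by
      rw [Subgroup.mem_bot.1 hk]; rfl)))⟩
  obtain ⟨⟨hKE, hKne⟩, hKmax⟩ := hK
  have hbig : ∀ e ∈ E, e ∉ K → U ⊓ fixed (K ⊔ Subgroup.zpowers e) = ⊥ := fun e he heK =>
    not_not.1 fun h => heK (hKmax ⟨sup_le hKE (Subgroup.zpowers_le.2 he), h⟩ le_sup_left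
      (Subgroup.mem_sup_right (Subgroup.mem_zpowers e)))
  have hsum : ∀ g ∈ E, g ∉ K → ∀ w ∈ U ⊓ fixed K, powSum r g w = 1 := by
    intro g hg hgK w hw
    have h1 : powSum r g w ∈ U ⊓ fixed (K ⊔ Subgroup.zpowers g) := by
      refine ⟨U.prod_mem fun j _ => orb_stable_mem (E.pow_mem hg j) hw.1, ?_⟩
      intro k hk
      have hle : K ⊔ Subgroup.zpowers g ≤ MulAction.stabilizer (MulAut M) (powSum r g w) := by
        refine sup_le (fun k hk => ?_) (Subgroup.zpowers_le.2 (powSum_fixed (hexp g hg) w))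
        show k (powSum r g w) = powSum r g w
        rw [powSum, map_prod]
        refine Finset.prod_congr rfl fun j _ => ?_
        rw [← MulAut.mul_apply, hcomm k (hKE hk) _ (E.pow_mem hg j), MulAut.mul_apply, hw.2 k hk]
      exact hle hk
    rw [hbig g hg hgK] at h1
    exact Subgroup.mem_bot.1 h1
  obtain ⟨⟨w, hw⟩, hw1⟩ := Subgroup.ne_bot_iff_exists_ne_one.1 hKne
  have hw1' : w ≠ 1 := fun h => hw1 (Subtype.ext h)
  have hgen : ∀ e ∈ E, e ∉ K → E ≤ K ⊔ Subgroup.zpowers e := by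
    intro e he heK f hf
    by_contra hfn
    have h1 : ∏ i ∈ Finset.range r, powSum r (e ^ i * f) w = 1 :=
      Finset.prod_eq_one fun i _ => hsum _ (E.mul_mem (E.pow_mem he i) hf) (fun hK' => hfn (by
        rw [show f = (e ^ i)⁻¹ * (e ^ i * f) by group]
        exact mul_mem (inv_mem (pow_mem (Subgroup.mem_sup_right (Subgroup.mem_zpowers e)) i))
          (Subgroup.mem_sup_left hK'))) w hw
    have h2 : ∀ i j : ℕ, ((e ^ i * f) ^ j) w = ((e ^ j) ^ i) ((f ^ j) w) := fun i j => by
      rw [(Commute.pow_left (hcomm e he f hf : Commute e f) i).mul_pow, ← pow_mul, ← pow_mul, mul_comm i j,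
        MulAut.mul_apply]
    simp only [powSum, h2] at h1
    rw [Finset.prod_comm] at h1
    rw [Finset.prod_eq_single 0] at h1
    · refine hw1' (eq_one_of_sq hS.exp hrodd ?_)
      simpa using h1
    · intro j hj hj0
      refine hsum (e ^ j) (E.pow_mem he j) (fun hjK => heK ?_) _
        ⟨orb_stable_mem (E.pow_mem hf j) hw.1, fun k hk => by
          rw [← MulAut.mul_apply, hcomm k (hKE hk) _ (E.pow_mem hf j), MulAut.mul_apply, hw.2 k hk]⟩
      have hcop : j.Coprime (orderOf e) :=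
        ((hr.coprime_iff_not_dvd.2 (Nat.not_dvd_of_pos_of_lt (Nat.pos_of_ne_zero hj0)
          (Finset.mem_range.1 hj))).symm).coprime_dvd_right (orderOf_dvd_of_pow_eq_one (hexp e he))
      obtain ⟨m, hm⟩ := exists_pow_eq_self_of_coprime hcop
      exact hm ▸ pow_mem hjK m
    · intro h
      exact absurd (Finset.mem_range.2 hr.pos) h
  have hKE' : K ≠ E := fun h => hKne (h ▸ hUE)
  obtain ⟨e, heE, heK⟩ := SetLike.exists_of_lt (lt_of_le_of_ne hKE hKE')
  have hcard : Nat.card E ≤ r * Nat.card K := by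
    let T : Subgroup (MulAut M) :=
      { carrier := {x | x ∈ E ∧ ∃ k ∈ K, ∃ j : ℕ, x = k * e ^ j}
        one_mem' := ⟨E.one_mem, 1, K.one_mem, 0, by simp⟩
        mul_mem' := by
          rintro _ _ ⟨ha, k, hk, i, rfl⟩ ⟨hb, l, hl, j, rfl⟩
          refine ⟨E.mul_mem ha hb, k * l, K.mul_mem hk hl, i + j, ?_⟩
          rw [pow_add, mul_assoc, mul_assoc, ← mul_assoc (e ^ i), ← hcomm l (hKE hl) _ (E.pow_mem heE i),
            mul_assoc]
        inv_mem' := by
          rintro _ ⟨ha, k, hk, i, rfl⟩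
          refine ⟨E.inv_mem ha, k⁻¹, K.inv_mem hk, (r - 1) * i, ?_⟩
          rw [mul_inv_rev, hcomm _ (E.inv_mem (E.pow_mem heE i)) _ (E.inv_mem (hKE hk))]
          congr 1
          refine inv_eq_of_mul_eq_one_right ?_
          rw [← pow_add, show i + (r - 1) * i = r * i by
            obtain ⟨s, rfl⟩ : ∃ s, r = s + 1 := ⟨r - 1, by have := hr.pos; omega⟩
            simp; ring, pow_mul, hexp e heE, one_pow] }
    have hle : E ≤ T := (hgen e heE heK).trans
      (sup_le (fun k hk => ⟨hKE hk, k, hk, 0, by simp⟩)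
        (Subgroup.zpowers_le.2 ⟨heE, 1, K.one_mem, 1, by simp⟩))
    have hsurj : ∀ x : E, ∃ kj : K × Fin r, (kj.1 : MulAut M) * e ^ (kj.2 : ℕ) = x := by
      intro x
      obtain ⟨-, k, hk, j, hj⟩ := hle x.2
      refine ⟨(⟨k, hk⟩, ⟨j % r, Nat.mod_lt _ hr.pos⟩), ?_⟩
      rw [hj]
      congr 1
      conv_rhs => rw [← Nat.mod_add_div j r, pow_add, pow_mul, hexp e heE, one_pow, mul_one]
    choose f hf using hsurj
    have h := Nat.card_le_card_of_injective f fun x y hxy => Subtype.ext (by rw [← hf x, ← hf y, hxy])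
    rw [Nat.card_prod, Nat.card_fin, mul_comm] at h
    exact h
  -- the images of `K` under `q`
  set c := (MulAut.conj q).toMonoidHom with hc
  have hcE : ∀ L : Subgroup (MulAut M), L ≤ E → L.map c ≤ E := by
    rintro L hL _ ⟨k, hk, rfl⟩
    exact hq k (hL hk)
  have hmove : ∀ L : Subgroup (MulAut M), ∀ x ∈ U ⊓ fixed L, q x ∈ U ⊓ fixed (L.map c) := by
    intro L x hx
    refine ⟨orb_stable_q hq hx.1, ?_⟩
    rintro _ ⟨k, hk, rfl⟩
    show (q * k * q⁻¹) (q x) = q x
    rw [MulAut.mul_apply, MulAut.mul_apply, show (q⁻¹ : MulAut M) (q x) = x from q.symm_apply_apply x,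
      hx.2 k hk]
  have hc3 : ∀ L : Subgroup (MulAut M), ((L.map c).map c).map c = L := by
    intro L
    rw [Subgroup.map_map, Subgroup.map_map]
    refine (congrArg (fun f => Subgroup.map f L) (?_ : c.comp (c.comp c) = MonoidHom.id _)).trans
      (Subgroup.map_id L)
    ext k x
    show ((q * (q * (q * k * q⁻¹) * q⁻¹) * q⁻¹) : MulAut M) x = k x
    rw [show q * (q * (q * k * q⁻¹) * q⁻¹) * q⁻¹ = q * q * q * k * (q * q * q)⁻¹ by group,
      show q * q * q = q ^ 3 by rw [pow_succ, pow_succ, pow_one], hS.q3]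
    simp
  set K' := K.map c with hK'
  set K'' := K'.map c with hK''
  by_cases hfix : K' = K
  · rcases avg_dichotomy hS (hodd K hKE)
      (fun n hn => hfix ▸ Subgroup.mem_map_of_mem c hn) with h | h
    · exact ⟨K, hKE, hcard, h⟩
    · exact absurd (hkill K hKE h) hKne
  exfalso
  have hcardK : ∀ L : Subgroup (MulAut M), Nat.card (L.map c) = Nat.card L := fun L =>
    Subgroup.card_map_of_injective (MulAut.conj q).injective
  have hne2 : K'' ≠ K := fun h => hfix (by
    have := congrArg (Subgroup.map c) h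
    rw [hK'', hK', hc3] at this
    exact this.symm)
  have hmeet : ∀ L : Subgroup (MulAut M), L ≤ E → Nat.card L = Nat.card K → L ≠ K →
      ∀ x ∈ U ⊓ fixed K, x ∈ fixed L → x = 1 := by
    intro L hL hLc hLK x hx hxL
    obtain ⟨f, hfL, hfK⟩ := SetLike.not_le_iff_exists.1
      (fun h => hLK (Subgroup.eq_of_le_of_card_ge h hLc.ge))
    have h1 : x ∈ U ⊓ fixed E := ⟨hx.1, fun k hk => by
      have hle : K ⊔ Subgroup.zpowers f ≤ MulAction.stabilizer (MulAut M) x :=
        sup_le (fun k hk => hx.2 k hk) (Subgroup.zpowers_le.2 (hxL f hfL))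
      exact hle (hgen f (hL hfL) hfK hk)⟩
    rw [hUE] at h1
    exact Subgroup.mem_bot.1 h1
  have h12 := hmeet K' (hcE K hKE) (hcardK K) hfix
  have h13 := hmeet K'' (hcE K' (hcE K hKE)) ((hcardK K').trans (hcardK K)) hne2
  have h23 : ∀ x ∈ U ⊓ fixed K', x ∈ fixed K'' → x = 1 := by
    intro x hx hxL
    have h1 := hmove K'' x ⟨hx.1, hxL⟩
    rw [hK'', hK', hc3] at h1
    have h2 := hmove K' x hx
    have h3 := h13 (q x) h1 h2.2
    simpa using congrArg q.symm h3
  set W := U ⊓ fixed K with hW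
  set W' := U ⊓ fixed K' with hW'
  have hinj : Function.Injective
      (fun ab : W × W' => (⟨mv q ((ab.1 : M) * ab.2), _, rfl⟩ : (mv q).range)) := by
    intro ab cd habcd
    have h0 : mv q ((ab.1 : M) * ab.2) = mv q ((cd.1 : M) * cd.2) := congrArg Subtype.val habcd
    obtain ⟨a, ha, hadef⟩ : ∃ a, a ∈ W ∧ a = (ab.1 : M) * (cd.1 : M)⁻¹ :=
      ⟨_, W.mul_mem ab.1.2 (W.inv_mem cd.1.2), rfl⟩
    obtain ⟨b, hb, hbdef⟩ : ∃ b, b ∈ W' ∧ b = (ab.2 : M) * (cd.2 : M)⁻¹ :=
      ⟨_, W'.mul_mem ab.2.2 (W'.inv_mem cd.2.2), rfl⟩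
    have h1 : mv q (a * b) = 1 := by
      rw [hadef, hbdef, show (ab.1 : M) * (cd.1 : M)⁻¹ * ((ab.2 : M) * (cd.2 : M)⁻¹) =
        (ab.1 : M) * ab.2 * ((cd.1 : M) * cd.2)⁻¹ by
          rw [mul_inv_rev, mul_comm ((cd.2 : M)⁻¹)]; exact mul_mul_mul_comm _ _ _ _, map_mul, map_inv, h0,
        mul_inv_cancel]
    rw [mv_apply, mul_inv_eq_one, map_mul] at h1
    set b' := q a * b⁻¹ with hb'
    have hb'W : b' ∈ W' := W'.mul_mem (hmove K a ha) (W'.inv_mem hb)
    have hcW : q b ∈ U ⊓ fixed K'' := hmove K' b hb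
    have hsum' : b' * q b = a := by
      rw [hb', mul_right_comm, h1, mul_inv_cancel_right]
    have hkc : q b ∈ fixed K := fun k hk => by
      have h2 : k b' * k (q b) = b' * q b := by rw [← map_mul, hsum']; exact ha.2 k hk
      have hkW' : k b' * b'⁻¹ ∈ W' := W'.mul_mem ⟨orb_stable_mem (hKE hk) hb'W.1, fun l hl => by
        rw [← MulAut.mul_apply, hcomm l (hcE K hKE hl) k (hKE hk), MulAut.mul_apply, hb'W.2 l hl]⟩
        (W'.inv_mem hb'W)
      have h3 : k b' * b'⁻¹ = q b * (k (q b))⁻¹ := by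
        rw [eq_mul_inv_iff_mul_eq, mul_right_comm, h2, mul_comm b', mul_inv_cancel_right]
      have h4 : k b' * b'⁻¹ ∈ fixed K'' := by
        rw [h3]
        exact (fixed K'').mul_mem hcW.2 ((fixed K'').inv_mem fun l hl => by
          rw [← MulAut.mul_apply, hcomm l (hcE K' (hcE K hKE) hl) k (hKE hk), MulAut.mul_apply, hcW.2 l hl])
      have h5 := h23 _ hkW' h4
      rw [h3, mul_inv_eq_one] at h5
      exact h5.symm
    have hb1 : b = 1 := by
      have h6 := h13 (q b) ⟨hcW.1, hkc⟩ hcW.2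
      simpa using congrArg q.symm h6
    rw [hb1, map_one, mul_one, mul_one] at h1
    have ha1 : a = 1 := h12 a ha (h1 ▸ (hmove K a ha).2)
    exact Prod.ext (Subtype.ext (mul_inv_eq_one.1 (hadef ▸ ha1)))
      (Subtype.ext (mul_inv_eq_one.1 (hbdef ▸ hb1)))
  have h9 := Nat.card_le_card_of_injective _ hinj
  rw [Nat.card_prod, hS.card] at h9
  have hWW : Nat.card W ≤ Nat.card W' :=
    Nat.card_le_card_of_injective (fun x : W => (⟨q x, hmove K x x.2⟩ : W'))
      fun x y h => Subtype.ext (q.injective (congrArg Subtype.val h))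
  obtain ⟨g, hg, hgw⟩ : ∃ g ∈ E, g w ≠ w := by
    by_contra hno
    push Not at hno
    have : w ∈ U ⊓ fixed E := ⟨hw.1, hno⟩
    rw [hUE] at this
    exact hw1' (Subgroup.mem_bot.1 this)
  have h3 : 3 ≤ Nat.card W := by
    have hgW : g w ∈ W := ⟨orb_stable_mem hg hw.1, fun k hk => by
      rw [← MulAut.mul_apply, hcomm k (hKE hk) g hg, MulAut.mul_apply, hw.2 k hk]⟩
    have h := Nat.card_le_card_of_injective (![(⟨1, W.one_mem⟩ : W), ⟨w, hw⟩, ⟨g w, hgW⟩]) ?_
    · simpa using h
    · intro i j hij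
      have hgw1 : g w ≠ 1 := fun h => hw1' (by simpa using congrArg g.symm h)
      fin_cases i <;> fin_cases j <;>
        first | rfl |
          (exfalso; simp [Subtype.ext_iff, hw1', hgw, hgw1, Ne.symm hw1', Ne.symm hgw, Ne.symm hgw1] at hij)
  nlinarith

section Restrict

/-- Automorphisms mapping `U` onto itself. -/
def stab (U : Subgroup M) : Subgroup (MulAut M) where
  carrier := {g | ∀ x, g x ∈ U ↔ x ∈ U}
  one_mem' := fun _ => Iff.rfl
  mul_mem' := fun {a b} ha hb x => (ha (b x)).trans (hb x)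
  inv_mem' := fun {a} ha x => by
    have := ha (a⁻¹ x)
    rw [show a (a⁻¹ x) = x from a.apply_symm_apply x] at this
    exact this.symm

omit [Finite M] in
theorem mem_stab_of_maps [Finite M] {U : Subgroup M} {g : MulAut M} (h : ∀ x ∈ U, g x ∈ U) :
    g ∈ stab U := fun x => by
  refine ⟨fun hx => ?_, h x⟩
  have hinj : Function.Injective (fun y : U => (⟨g y, h y y.2⟩ : U)) := fun a b hab =>
    Subtype.ext (g.injective (congrArg Subtype.val hab))
  obtain ⟨y, hy⟩ := hinj.bijective_of_finite.2 ⟨g x, hx⟩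
  exact g.injective (congrArg Subtype.val hy) ▸ y.2

/-- Restriction to `U`. -/
def res (U : Subgroup M) : stab U →* MulAut U where
  toFun g :=
    { toFun := fun x => ⟨(g : MulAut M) x, (g.2 x).2 x.2⟩
      invFun := fun x => ⟨((g⁻¹ : stab U) : MulAut M) x, ((g⁻¹ : stab U).2 x).2 x.2⟩
      left_inv := fun x => Subtype.ext ((g : MulAut M).symm_apply_apply x)
      right_inv := fun x => Subtype.ext ((g : MulAut M).apply_symm_apply x)
      map_mul' := fun x y => Subtype.ext (map_mul (g : MulAut M) _ _) }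
  map_one' := rfl
  map_mul' := fun _ _ => rfl

end Restrict

/-- If the conjugates of `V` under a `p`-group normalised by `q` generate, it has order at most `p`. -/
theorem card_le_of_generated {q : MulAut M} (hS : Small q) {p : ℕ} [hp : Fact p.Prime] (hp5 : 5 ≤ p)
    (T : Subgroup (MulAut M)) (hT : IsPGroup p T) (hq : ∀ t ∈ T, q * t * q⁻¹ ∈ T)
    (hgen : orb T (mv q).range = ⊤) : Nat.card T ≤ p := by
  haveI := finite_mulAut (M := M)
  have hpodd : Odd p := hp.out.odd_of_ne_two (by omega)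
  rcases eq_or_ne T ⊥ with hT1 | hT1
  · rw [hT1, Subgroup.card_bot]; exact hp.out.pos
  let Z : Subgroup (MulAut M) :=
    { carrier := {z | z ∈ T ∧ z ^ p = 1 ∧ ∀ t ∈ T, z * t = t * z}
      one_mem' := ⟨T.one_mem, one_pow p, fun t _ => by rw [one_mul, mul_one]⟩
      mul_mem' := fun {a b} ha hb => ⟨T.mul_mem ha.1 hb.1, by
        rw [(show Commute a b from ha.2.2 b hb.1).mul_pow, ha.2.1, hb.2.1, one_mul],
        fun t ht => ((show Commute a t from ha.2.2 t ht).mul_left (hb.2.2 t ht)).eq⟩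
      inv_mem' := fun {a} ha => ⟨T.inv_mem ha.1, by rw [inv_pow, ha.2.1, inv_one],
        fun t ht => (show Commute a t from ha.2.2 t ht).inv_left.eq⟩ }
  obtain ⟨z, hzZ, hz1⟩ : ∃ z ∈ Z, z ≠ 1 := by
    haveI := (Subgroup.nontrivial_iff_ne_bot T).2 hT1
    haveI := hT.center_nontrivial
    obtain ⟨m, hm, hm'⟩ := (hT.to_subgroup (Subgroup.center T)).nontrivial_iff_card.1 inferInstance
    obtain ⟨z, hz⟩ := exists_prime_orderOf_dvd_card' (G := Subgroup.center T) p (hm' ▸ dvd_pow_self p hm.ne')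
    refine ⟨((z : T) : MulAut M), ⟨(z : T).2, ?_, fun t ht => ?_⟩, fun h => ?_⟩
    · have := pow_orderOf_eq_one z
      rw [hz] at this
      exact congrArg (fun y : Subgroup.center T => ((y : T) : MulAut M)) this
    · exact (congrArg Subtype.val (Subgroup.mem_center_iff.1 z.2 ⟨t, ht⟩)).symm
    · have : z = 1 := Subtype.ext (Subtype.ext h)
      rw [this, orderOf_one] at hz
      omega
  have hZq : ∀ y ∈ Z, q * y * q⁻¹ ∈ Z := by
    intro y hy
    refine ⟨hq y hy.1, by rw [conj_pow, hy.2.1, mul_one, mul_inv_cancel], fun t ht => ?_⟩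
    have hinj : Function.Injective (fun t : T => (⟨q * t * q⁻¹, hq t t.2⟩ : T)) := fun a b h =>
      Subtype.ext (mul_left_cancel (mul_right_cancel (congrArg Subtype.val h)))
    obtain ⟨t', ht'⟩ := hinj.bijective_of_finite.2 ⟨t, ht⟩
    have e : q * t' * q⁻¹ = t := congrArg Subtype.val ht'
    rw [← e]
    calc q * y * q⁻¹ * (q * t' * q⁻¹) = q * (y * t') * q⁻¹ := by group
      _ = q * (t' * y) * q⁻¹ := by rw [hy.2.2 t' t'.2]
      _ = q * t' * q⁻¹ * (q * y * q⁻¹) := by group
  obtain ⟨K, hKZ, hKcard, hKV⟩ := exists_hyperplane hS hp.out (by omega) Z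
    (fun a ha b hb => ha.2.2 b hb.1) (fun a ha => ha.2.1) hZq
  have hglobal : ∀ y ∈ Z, (mv q).range ≤ fixed (Subgroup.zpowers y) → y = 1 := by
    intro y hy hyV
    ext x
    have h1 : x ∈ MonoidHom.eqLocus (y : M ≃* M).toMonoidHom (MonoidHom.id M) := by
      refine (Subgroup.closure_le _).2 ?_ (hgen.symm ▸ Subgroup.mem_top x : x ∈ orb T (mv q).range)
      rintro _ ⟨t, ht, v, hv, rfl⟩
      show y (t v) = t v
      rw [← MulAut.mul_apply, hy.2.2 t ht, MulAut.mul_apply, hyV hv y (Subgroup.mem_zpowers y)]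
    exact h1
  have hK1 : K = ⊥ := (Subgroup.eq_bot_iff_forall K).2 fun k hk =>
    hglobal k (hKZ hk) (hKV.trans (fixed_antitone (Subgroup.zpowers_le.2 hk)))
  rw [hK1, Subgroup.card_bot, mul_one] at hKcard
  have hzo : orderOf z = p := orderOf_eq_prime hzZ.2.1 hz1
  have hZeq : Subgroup.zpowers z = Z :=
    Subgroup.eq_of_le_of_card_ge (Subgroup.zpowers_le.2 hzZ) (by rw [Nat.card_zpowers, hzo]; exact hKcard)
  have hZodd : Odd (Nat.card Z) := by rw [← hZeq, Nat.card_zpowers, hzo]; exact hpodd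
  have hpowz : ∀ {v : M} {d : ℕ}, 0 < d → d < p → (z ^ d) v = v → z v = v := by
    intro v d hd hdp h
    obtain ⟨m, hm⟩ := exists_pow_eq_self_of_coprime (x := z) (n := d)
      (by rw [hzo]; exact ((hp.out.coprime_iff_not_dvd).2 (Nat.not_dvd_of_pos_of_lt hd hdp)).symm)
    have h2 : z ∈ MulAction.stabilizer (MulAut M) v := hm ▸ pow_mem (show z ^ d ∈ _ from h) m
    exact h2
  rcases avg_dichotomy hS hZodd hZq with hV | hV
  · exact absurd (hglobal z hzZ (hV.trans (fixed_antitone (Subgroup.zpowers_le.2 hzZ)))) hz1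
  have hfree : ∀ x ∈ fixed Z, x = 1 := by
    intro x hx
    have h1 : x ∈ (avg Z).ker := by
      refine (Subgroup.closure_le _).2 ?_ (hgen.symm ▸ Subgroup.mem_top x : x ∈ orb T (mv q).range)
      rintro _ ⟨t, ht, v, hv, rfl⟩
      rw [SetLike.mem_coe, MonoidHom.mem_ker, ← avg_comm (fun n hn => ?_), hV v hv, map_one]
      rw [← hn.2.2 t ht, mul_inv_cancel_right]
      exact hn
    rw [← avg_eq_self hS.exp hZodd hx, MonoidHom.mem_ker.1 h1]
  have hne : q * z * q⁻¹ ≠ z := by
    intro h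
    have hqz : ∀ x, q (z x) = z (q x) := fun x => by
      have h1 : q * z = z * q := mul_inv_eq_iff_eq_mul.1 h
      exact congrArg (fun f : MulAut M => f x) h1
    have hzV : ∀ (n : ℕ) (x : M), ∃ y, mv q y = (z ^ n) (mv q x) := by
      intro n x
      induction n with
      | zero => exact ⟨x, rfl⟩
      | succ n ih =>
        obtain ⟨y, hy⟩ := ih
        refine ⟨z y, ?_⟩
        rw [pow_succ', MulAut.mul_apply, ← hy, mv_apply, mv_apply, map_mul z, map_inv z, hqz]
    refine hz1 (hglobal z hzZ fun v hv k hk => ?_)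
    obtain ⟨x, rfl⟩ := hv
    have hne' : ¬ Function.Injective
        (fun i : Fin p => (⟨(z ^ (i : ℕ)) (mv q x), hzV i x⟩ : (mv q).range)) := fun hi => by
      have := Nat.card_le_card_of_injective _ hi
      rw [Nat.card_fin, hS.card] at this
      exact absurd this (by omega)
    rw [Function.not_injective_iff] at hne'
    obtain ⟨i, j, hij, hne''⟩ := hne'
    have hij' : (z ^ (i : ℕ)) (mv q x) = (z ^ (j : ℕ)) (mv q x) := congrArg Subtype.val hij
    have hfix : z (mv q x) = mv q x := by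
      rcases lt_or_gt_of_ne (Fin.val_injective.ne hne'') with h' | h'
      · refine hpowz (Nat.sub_pos_of_lt h') (by omega) ((z ^ (i : ℕ)).injective ?_)
        rw [← MulAut.mul_apply, ← pow_add, Nat.add_sub_cancel' h'.le, hij']
      · refine hpowz (Nat.sub_pos_of_lt h') (by omega) ((z ^ (j : ℕ)).injective ?_)
        rw [← MulAut.mul_apply, ← pow_add, Nat.add_sub_cancel' h'.le, hij']
    exact (Subgroup.zpowers_le.2 (show z ∈ MulAction.stabilizer (MulAut M) (mv q x) from hfix) hk :)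
  have hker : Nat.card (mv q).ker ≤ 4 := by
    rw [← hS.card]
    refine Nat.card_le_card_of_injective
      (fun u : (mv q).ker => (⟨mv q (z u), _, rfl⟩ : (mv q).range)) fun u u' h => ?_
    obtain ⟨w, hwk, hwdef⟩ : ∃ w, w ∈ (mv q).ker ∧ w = (u : M) * (u' : M)⁻¹ :=
      ⟨_, (mv q).ker.mul_mem u.2 ((mv q).ker.inv_mem u'.2), rfl⟩
    have h1 : mv q (z w) = 1 := by
      rw [hwdef, map_mul z, map_inv z, map_mul, map_inv, show mv q (z u) = mv q (z u') from
        congrArg Subtype.val h, mul_inv_cancel]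
    rw [MonoidHom.mem_ker, mv_apply, mul_inv_eq_one] at hwk
    rw [mv_apply, mul_inv_eq_one] at h1
    have hyw : (q * z * q⁻¹) w = z w := by
      rw [MulAut.mul_apply, MulAut.mul_apply,
        show (q⁻¹ : MulAut M) w = w from q.injective ((q.apply_symm_apply w).trans hwk.symm), h1]
    set y := z⁻¹ * (q * z * q⁻¹) with hy
    have hyZ : y ∈ Z := Z.mul_mem (Z.inv_mem hzZ) (hZq z hzZ)
    have hy1 : y ≠ 1 := fun h => hne (inv_mul_eq_one.1 h).symm
    have hyfix : y w = w := by
      rw [hy, MulAut.mul_apply, hyw]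
      exact z.symm_apply_apply w
    have hyZeq : Subgroup.zpowers y = Z :=
      Subgroup.eq_of_le_of_card_ge (Subgroup.zpowers_le.2 hyZ)
        (by rw [Nat.card_zpowers, orderOf_eq_prime hyZ.2.1 hy1]; exact hKcard)
    have hw1 : w = 1 := hfree w fun k hk => (Subgroup.zpowers_le.2
      (show y ∈ MulAction.stabilizer (MulAut M) w from hyfix) (hyZeq.ge hk) :)
    exact Subtype.ext (mul_inv_eq_one.1 (hwdef ▸ hw1))
  have hM : Nat.card M ≤ 16 := by
    rw [← (mv q).ker.index_mul_card, Subgroup.index_ker, hS.card]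
    omega
  haveI : Fact (Nat.Prime 2) := ⟨Nat.prime_two⟩
  have hM2 : IsPGroup 2 M := fun x => ⟨1, by rw [pow_one, sq]; exact hS.exp x⟩
  obtain ⟨d, hd⟩ := IsPGroup.iff_card.1 hM2
  have hd4 : d ≤ 4 := (Nat.pow_le_pow_iff_right (a := 2) (by norm_num)).1 (hd ▸ hM)
  obtain ⟨-, haut⟩ := FrattiniAut.elemAbelian_facts (p := 2) (V := M)
    (fun x => by rw [sq]; exact hS.exp x) hd
  obtain ⟨a, ha⟩ := IsPGroup.iff_card.1 hT
  rw [ha]
  refine (Nat.pow_le_pow_right hp.out.pos (not_lt.1 fun h2 => ?_ : a ≤ 1)).trans (pow_one p).le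
  have h3 : p ^ 2 ∣ 2 ^ 6 * 3 ^ 2 * 35 := by
    refine ((pow_dvd_pow p h2).trans (ha ▸ Subgroup.card_subgroup_dvd_card T)).trans ?_
    rw [haut]
    interval_cases d <;> simp [Finset.prod_range_succ]
  have hcop : (p ^ 2).Coprime (2 ^ 6 * 3 ^ 2) := by
    refine Nat.Coprime.pow_left 2 ((hp.out.coprime_iff_not_dvd).2 fun h => ?_)
    rcases (Nat.Prime.dvd_mul hp.out).1 h with h | h
    · have := (Nat.prime_dvd_prime_iff_eq hp.out Nat.prime_two).1 (hp.out.dvd_of_dvd_pow h); omega
    · have := (Nat.prime_dvd_prime_iff_eq hp.out Nat.prime_three).1 (hp.out.dvd_of_dvd_pow h); omega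
  have h4 : p ^ 2 ∣ 35 := hcop.dvd_of_dvd_mul_left h3
  have h5 : p ≤ 5 := by
    have := Nat.le_of_dvd (by norm_num) h4
    nlinarith
  obtain rfl : p = 5 := le_antisymm h5 hp5
  norm_num at h4

/-- A `p`-group, `p ≥ 5`, normalised by `q` has a subgroup of index at most `p` centralizing `V`. -/
theorem exists_hyperplane_pGroup {q : MulAut M} (hS : Small q) {p : ℕ} [hp : Fact p.Prime] (hp5 : 5 ≤ p)
    (P : Subgroup (MulAut M)) (hP : IsPGroup p P) (hq : ∀ t ∈ P, q * t * q⁻¹ ∈ P) :
    ∃ K ≤ P, Nat.card P ≤ p * Nat.card K ∧ (mv q).range ≤ fixed K := by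
  haveI := finite_mulAut (M := M)
  set U := orb P (mv q).range with hU
  have hPs : P ≤ stab U := fun g hg => mem_stab_of_maps fun x hx => orb_stable_mem hg hx
  have hqs : q ∈ stab U := mem_stab_of_maps fun x hx => orb_stable_q hq hx
  let q' : MulAut U := res U ⟨q, hqs⟩
  have hrange : (mv q').range.map U.subtype = (mv q).range := by
    refine le_antisymm ?_ fun v hv => ?_
    · rintro _ ⟨_, ⟨x, rfl⟩, rfl⟩
      exact ⟨(x : M), rfl⟩
    · obtain ⟨y, rfl⟩ := hv
      have hne : ∃ u ∈ (mv q).range, mv q u = mv q y := by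
        have hinj : Function.Injective (fun u : (mv q).range => (⟨mv q u, _, rfl⟩ : (mv q).range)) := by
          intro a b hab
          have h1 : mv q ((a : M) * (b : M)⁻¹) = 1 := by
            rw [map_mul, map_inv, show mv q a = mv q b from congrArg Subtype.val hab, mul_inv_cancel]
          rw [mv_apply, mul_inv_eq_one] at h1
          exact Subtype.ext (mul_inv_eq_one.1
            (hS.eq_one_of_fixed ((mv q).range.mul_mem a.2 ((mv q).range.inv_mem b.2)) h1))
        obtain ⟨u, hu⟩ := hinj.bijective_of_finite.2 ⟨mv q y, y, rfl⟩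
        exact ⟨u, u.2, congrArg Subtype.val hu⟩
      obtain ⟨u, hu, huy⟩ := hne
      exact ⟨mv q' ⟨u, le_orb P _ hu⟩, ⟨_, rfl⟩, huy⟩
  have hS' : Small q' :=
    { exp := fun x => Subtype.ext (hS.exp x)
      q3 := by
        rw [← map_pow, show (⟨q, hqs⟩ : stab U) ^ 3 = 1 from Subtype.ext hS.q3, map_one]
      card := by
        rw [← Subgroup.card_map_of_injective (K := (mv q').range) U.subtype_injective, hrange, hS.card] }
  set T := (P.subgroupOf (stab U)).map (res U) with hT
  have hTcard : Nat.card T ≤ p := by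
    refine card_le_of_generated hS' hp5 T ((hP.of_equiv (Subgroup.subgroupOfEquivOfLe hPs).symm).map _) ?_ ?_
    · rintro _ ⟨t, ht, rfl⟩
      exact ⟨⟨q, hqs⟩ * t * (⟨q, hqs⟩)⁻¹, hq t ht, by rw [map_mul, map_mul, map_inv]⟩
    · rw [eq_top_iff]
      rintro ⟨x, hx⟩ -
      have h2 : U ≤ (orb T (mv q').range).map U.subtype := by
        refine hU.le.trans ((Subgroup.closure_le _).2 ?_)
        rintro _ ⟨e, he, v, hv, rfl⟩
        obtain ⟨v', hv', rfl⟩ := hrange.ge hv
        exact ⟨res U ⟨e, hPs he⟩ v', Subgroup.subset_closure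
          ⟨_, Subgroup.mem_map_of_mem _ (show (⟨e, hPs he⟩ : stab U) ∈ P.subgroupOf (stab U) from he), v', hv', rfl⟩, rfl⟩
      obtain ⟨y, hy, hyx⟩ := h2 hx
      rwa [show (⟨x, hx⟩ : U) = y from Subtype.ext hyx.symm]
  let ψ : P →* MulAut U := (res U).comp (Subgroup.inclusion hPs)
  refine ⟨ψ.ker.map P.subtype, Subgroup.map_subtype_le _, ?_, ?_⟩
  · rw [Subgroup.card_map_of_injective P.subtype_injective, ← ψ.ker.index_mul_card, Subgroup.index_ker]
    refine Nat.mul_le_mul_right _ ((Subgroup.card_le_of_le ?_).trans hTcard)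
    rintro _ ⟨t, rfl⟩
    exact Subgroup.mem_map_of_mem (res U) (show Subgroup.inclusion hPs t ∈ P.subgroupOf (stab U) from t.2)
  · intro v hv
    rintro _ ⟨k, hk, rfl⟩
    exact congrArg Subtype.val
      (congrArg (fun f : MulAut U => f ⟨v, le_orb P _ hv⟩) (MonoidHom.mem_ker.1 hk))

end Cfsg.Agent.FGStruct.FourMove
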