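import Cfsg.Agent.Lib.FGStruct.FourMove.Action
import Cfsg.Agent.Lib.OddOrder.OmegaCentral
import Cfsg.Agent.Lib.OddOrder.RankTwoSolvable
import Cfsg.Agent.Lib.Solvable.Hall

/-!
A solvable group with an elementary abelian subgroup of order `p ^ 3`, `p` odd, and an element of
order `3` on a normal elementary abelian `2`-subgroup `M` moving only a four-group `V`: some
elementary abelian subgroup of odd order `r ^ 3` has a noncyclic subgroup centralizing `V`.
-/

set_option autoImplicit false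
set_option linter.style.haveILetI false

open scoped commutatorElement Pointwise

namespace Cfsg.Agent.FGStruct.FourMove

variable {S : Type*} [Group S] [Finite S]

/-- Passing a subgroup of index at most `r` back along a homomorphism. -/
theorem card_le_mul_inf_comap {A : Type*} [Group A] [Finite A] (φ : S →* A) {E : Subgroup S}
    {T K : Subgroup A} (hET : E.map φ ≤ T) (hKT : K ≤ T) {r : ℕ} (hK : Nat.card T ≤ r * Nat.card K) :
    Nat.card E ≤ r * Nat.card (E ⊓ K.comap φ : Subgroup S) := by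
  set ψ := φ.comp E.subtype with hψ
  have h1 := (K.comap ψ).index_mul_card
  rw [Subgroup.index_comap] at h1
  have h2 : K.relIndex T ≤ r := by
    have h3 := (K.subgroupOf T).index_mul_card
    rw [Nat.card_congr (Subgroup.subgroupOfEquivOfLe hKT).toEquiv] at h3
    exact Nat.le_of_mul_le_mul_right (h3.le.trans hK) Nat.card_pos
  have h4 : K.relIndex ψ.range ≤ r := by
    refine (Subgroup.relIndex_le_of_le_right ?_ ?_).trans h2
    · rintro _ ⟨x, rfl⟩
      exact hET ⟨x, x.2, rfl⟩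
    · exact Subgroup.index_ne_zero_of_finite
  have h5 : Nat.card (K.comap ψ) ≤ Nat.card (E ⊓ K.comap φ : Subgroup S) :=
    Nat.card_le_card_of_injective
      (fun x => (⟨((x : E) : S), (x : E).2, x.2⟩ : (E ⊓ K.comap φ : Subgroup S)))
      fun x y h => Subtype.ext (Subtype.ext (congrArg Subtype.val h :))
  rw [← h1]
  exact Nat.mul_le_mul h4 h5

/-- Trim to order `r ^ 3`. -/
theorem exists_trim {r : ℕ} [hr : Fact r.Prime] {W : Subgroup S} {A C : Subgroup S}
    (hA : Cfsg.IsElementaryAbelian r A) (hA3 : r ^ 3 ≤ Nat.card A) (hCA : C ≤ A)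
    (hC : Nat.card A ≤ r * Nat.card C) (hCW : C ≤ W) :
    ∃ F : Subgroup S, Cfsg.IsElementaryAbelian r F ∧ Nat.card F = r ^ 3 ∧ ¬ IsCyclic ↥(F ⊓ W) := by
  have hAp : IsPGroup r A := fun a => ⟨1, by rw [pow_one]; exact Subtype.ext (hA.2 a a.2)⟩
  obtain ⟨a, ha⟩ := IsPGroup.iff_card.1 hAp
  obtain ⟨c, hc⟩ := IsPGroup.iff_card.1 (hAp.to_le hCA)
  rw [ha] at hA3
  rw [ha, hc, ← pow_succ'] at hC
  have h3a := (Nat.pow_le_pow_iff_right hr.out.one_lt).1 hA3
  have hac := (Nat.pow_le_pow_iff_right hr.out.one_lt).1 hC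
  obtain ⟨B, hB⟩ := Sylow.exists_subgroup_card_pow_prime r (G := C) (n := 2)
    (hc ▸ pow_dvd_pow r (by omega))
  set B' : Subgroup S := B.map C.subtype with hB'def
  have hB'C : B' ≤ C := Subgroup.map_subtype_le _
  have hB' : Nat.card (B'.subgroupOf A) = r ^ 2 := by
    rw [Nat.card_congr (Subgroup.subgroupOfEquivOfLe (hB'C.trans hCA)).toEquiv, hB'def,
      Subgroup.card_map_of_injective C.subtype_injective, hB]
  obtain ⟨F, hF, hBF⟩ := Sylow.exists_subgroup_card_pow_succ (G := A) (n := 2)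
    (ha ▸ pow_dvd_pow r h3a) hB'
  set F' : Subgroup S := F.map A.subtype with hF'def
  have hF'A : F' ≤ A := Subgroup.map_subtype_le _
  have hB'F : B' ≤ F' := fun x hx =>
    ⟨⟨x, hCA (hB'C hx)⟩, hBF (Subgroup.mem_subgroupOf.2 hx), rfl⟩
  haveI := hA.1
  refine ⟨F', ⟨.of_setLike_mul_comm fun x hx y hy =>
    congrArg Subtype.val (mul_comm' (⟨x, hF'A hx⟩ : A) ⟨y, hF'A hy⟩), fun x hx => hA.2 x (hF'A hx)⟩,
    by rw [hF'def, Subgroup.card_map_of_injective A.subtype_injective, hF], ?_⟩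
  intro hcyc
  obtain ⟨g, hg⟩ := hcyc.exists_generator
  have hgA : (g : S) ^ r = 1 := hA.2 _ (hF'A g.2.1)
  have h1 : Nat.card ↥(F' ⊓ W) ≤ r := by
    rw [← orderOf_eq_card_of_forall_mem_zpowers hg]
    refine Nat.le_of_dvd hr.out.pos (orderOf_dvd_of_pow_eq_one (Subtype.ext ?_))
    simpa using hgA
  have h2 : Nat.card B' ≤ Nat.card ↥(F' ⊓ W) :=
    Subgroup.card_le_of_le (le_inf hB'F (hB'C.trans hCW))
  have h7 : r ^ 2 ≤ r := by
    rw [hB'def, Subgroup.card_map_of_injective C.subtype_injective, hB] at h2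
    exact h2.trans h1
  have h8 := hr.out.one_lt
  nlinarith

theorem main [Group.IsSolvable S] (M : Subgroup S) [M.Normal] (hM : Cfsg.IsElementaryAbelian 2 M)
    (p : ℕ) (hp : p.Prime) (hp2 : p ≠ 2) (E : Subgroup S) (hE : Cfsg.IsElementaryAbelian p E)
    (hE3 : Nat.card E = p ^ 3) (Q : Subgroup S) (hQc : IsCyclic Q) (hQ3 : IsPGroup 3 Q)
    (hQ1 : ∀ x ∈ Q, x ^ 3 ∈ Subgroup.centralizer (M : Set S)) (hQM : Nat.card ↥⁅Q, M⁆ = 4) :
    ∃ (r : ℕ) (F : Subgroup S), r.Prime ∧ r ≠ 2 ∧ Cfsg.IsElementaryAbelian r F ∧ Nat.card F = r ^ 3 ∧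
      ¬ IsCyclic ↥(F ⊓ Subgroup.centralizer ((⁅Q, M⁆ : Subgroup S) : Set S)) := by
  classical
  haveI := hM.1
  letI : CommGroup M := { M.toGroup with mul_comm := fun a b => mul_comm' a b }
  haveI := finite_mulAut (M := M)
  haveI : Fact (Nat.Prime 3) := ⟨Nat.prime_three⟩
  haveI := Fact.mk hp
  let φ : S →* MulAut M := MulAut.conjNormal
  obtain ⟨⟨q₀, hq₀⟩, hgen⟩ := hQc.exists_generator
  set q := φ q₀ with hqdef
  have hmv : ∀ x : M, ((mv q x : M) : S) = ⁅q₀, (x : S)⁆ := fun x => by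
    show q₀ * (x : S) * q₀⁻¹ * (x : S)⁻¹ = _
    rw [commutatorElement_def]
  have hV : (mv q).range.map M.subtype = ⁅Q, M⁆ := by
    apply le_antisymm
    · rintro _ ⟨_, ⟨x, rfl⟩, rfl⟩
      show ((mv q x : M) : S) ∈ _
      rw [hmv]
      exact Subgroup.commutator_mem_commutator hq₀ x.2
    · rw [Subgroup.commutator_le]
      intro g hg m hm
      obtain ⟨i, hi⟩ := hgen ⟨g, hg⟩
      have hi' : q₀ ^ i = g := congrArg Subtype.val hi
      let π := QuotientGroup.mk' (mv q).range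
      have hinv : ∀ x : M, π (q x) = π x := fun x => by
        refine (QuotientGroup.eq.2 ?_ : (q x : M ⧸ (mv q).range) = x)
        exact ⟨x⁻¹, by rw [mv_apply, map_inv, inv_inv]⟩
      let T : Subgroup (MulAut M) :=
        { carrier := {a | ∀ x : M, π (a x) = π x}
          one_mem' := fun x => rfl
          mul_mem' := fun {a b} ha hb x => (ha (b x)).trans (hb x)
          inv_mem' := fun {a} ha x => by
            have h1 := ha (a⁻¹ x)
            rw [show a (a⁻¹ x) = x from a.apply_symm_apply x] at h1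
            exact h1.symm }
      have hmem : φ g ∈ T := by
        rw [← hi', map_zpow]
        exact T.zpow_mem hinv i
      refine ⟨φ g (⟨m, hm⟩ : M) * (⟨m, hm⟩ : M)⁻¹, ?_, ?_⟩
      · refine (QuotientGroup.eq_one_iff _).1 ?_
        show π _ = 1
        rw [map_mul π, map_inv π, hmem, mul_inv_cancel]
      · show g * m * g⁻¹ * m⁻¹ = _
        rw [commutatorElement_def]
  have hS : Small q :=
    { exp := fun x => Subtype.ext (by rw [Subgroup.coe_mul, ← sq]; exact hM.2 _ x.2)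
      q3 := by
        rw [hqdef, ← map_pow]
        ext x
        show q₀ ^ 3 * (x : S) * (q₀ ^ 3)⁻¹ = x
        rw [← Subgroup.mem_centralizer_iff.1 (hQ1 q₀ hq₀) x x.2, mul_inv_cancel_right]
      card := by
        rw [← Subgroup.card_map_of_injective (K := (mv q).range) M.subtype_injective, hV]
        exact hQM }
  have hcent : ∀ {K : Subgroup (MulAut M)}, (mv q).range ≤ fixed K →
      K.comap φ ≤ Subgroup.centralizer ((⁅Q, M⁆ : Subgroup S) : Set S) := by
    intro K hK g hg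
    rw [Subgroup.mem_centralizer_iff]
    intro y hy
    obtain ⟨v, hv, rfl⟩ := hV.ge hy
    have h1 : g * (v : S) * g⁻¹ = v := congrArg Subtype.val (hK hv (φ g) hg)
    exact (mul_inv_eq_iff_eq_mul.1 h1).symm
  by_cases hr3 : Cfsg.PRankLE 3 2 S
  · have hp3 : p ≠ 3 := fun h => by
      have h1 := hr3 E hE.1 (fun a ha => h ▸ hE.2 a ha)
      rw [hE3, h] at h1
      norm_num at h1
    have hp5 : 5 ≤ p := by
      have := hp.two_le
      by_contra h
      push Not at h
      interval_cases p <;> norm_num at *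
    set N := Nat.card S with hN
    have hN0 : N ≠ 0 := Nat.card_pos.ne'
    set a := N.factorization 3
    set c := N / 3 ^ a
    have hac : 3 ^ a * c = N := Nat.ordProj_mul_ordCompl_eq_self N 3
    have hc0 : c ≠ 0 := fun h => hN0 (by rw [← hac, h, mul_zero])
    set b := c.factorization p
    set d := c / p ^ b
    have hbd : p ^ b * d = c := Nat.ordProj_mul_ordCompl_eq_self c p
    have hd3 : Nat.Coprime 3 d :=
      (Nat.coprime_ordCompl Nat.prime_three hN0).coprime_dvd_right (Dvd.intro_left _ hbd)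
    have hdp : Nat.Coprime p d := Nat.coprime_ordCompl hp hc0
    have hG : Nat.card S = (3 ^ a * p ^ b) * d := by rw [← hN, mul_assoc, hbd, hac]
    have hmn : (3 ^ a * p ^ b).Coprime d := (hd3.pow_left a).mul_left (hdp.pow_left b)
    obtain ⟨H, hH, hQH⟩ := HallSolv.exists_hall_ge hG hmn (K := Q) (by
      obtain ⟨k, hk⟩ := IsPGroup.iff_card.1 hQ3
      exact hk ▸ hd3.pow_left k)
    obtain ⟨g, hg⟩ := HallSolv.hall_conj_le hG hmn hH (K := E) (hE3 ▸ hdp.pow_left 3)
    set E' : Subgroup S := MulAut.conj g • E with hE'def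
    have hE'e : Cfsg.IsElementaryAbelian p E' := by
      haveI := hE.1
      refine ⟨.of_setLike_mul_comm fun x hx y hy => ?_, fun x hx => ?_⟩
      · obtain ⟨x', hx', rfl⟩ := hx
        obtain ⟨y', hy', rfl⟩ := hy
        show MulAut.conj g x' * MulAut.conj g y' = MulAut.conj g y' * MulAut.conj g x'
        rw [← map_mul, ← map_mul]
        exact congrArg _ (congrArg Subtype.val (mul_comm' (⟨x', hx'⟩ : E) ⟨y', hy'⟩))
      · obtain ⟨x', hx', rfl⟩ := hx
        show (MulAut.conj g x') ^ p = 1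
        rw [← map_pow, hE.2 x' hx', map_one]
    have hE'3 : Nat.card E' = p ^ 3 := by
      rw [hE'def, ← hE3]
      exact Nat.card_congr (Subgroup.equivSMul _ E).toEquiv.symm
    have hHodd : Odd (Nat.card H) := hH ▸ (Nat.odd_iff.2 (by norm_num) |>.pow).mul
      ((hp.odd_of_ne_two hp2).pow)
    haveI : Group.IsSolvable H := inferInstance
    obtain ⟨-, -, hq⟩ := OddOrder.RankTwo.structure_general (G := H) hHodd (p := 3) (by norm_num)
      (OddOrder.RankTwo.prankLE_mono hr3)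
    haveI := FittingCores.pPrimeCore_normal (G := H) 3
    set O := Cfsg.pPrimeCore 3 H with hO
    have hcop : (Nat.card O).Coprime 3 := FittingCores.pPrimeCore_coprime 3
    obtain ⟨j, -, hj⟩ := (Nat.dvd_prime_pow hp).1
      ((hcop.pow_right a).dvd_of_dvd_mul_left (hH ▸ Subgroup.card_subgroup_dvd_card O) : Nat.card O ∣ p ^ b)
    have hidx : ∀ l : ℕ, l.Prime → l ∣ O.index → l = 3 := by
      intro l hl hld
      by_contra h
      have h1 := (hq l hl hld h).2
      have h2 := hl.two_le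
      interval_cases l
      exact absurd (hld.trans (Subgroup.index_dvd_card O)) hHodd.not_two_dvd_nat
    have hEO : E'.subgroupOf H ≤ O := by
      intro x hx
      rw [← QuotientGroup.eq_one_iff]
      have h1 : orderOf (x : H ⧸ O) ∣ p := orderOf_dvd_of_pow_eq_one (by
        rw [← QuotientGroup.mk_pow, QuotientGroup.eq_one_iff,
          show x ^ p = 1 from Subtype.ext (by simpa using hE'e.2 _ hx)]
        exact one_mem O)
      have h2 : orderOf (x : H ⧸ O) ∣ O.index := (Subgroup.index_eq_card O) ▸ orderOf_dvd_natCard _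
      rcases (Nat.dvd_prime hp).1 h1 with h3 | h3
      · exact orderOf_eq_one_iff.1 h3
      · exact absurd (hidx p hp (h3 ▸ h2)) hp3
    set P := O.map H.subtype with hPdef
    have hE'P : E' ≤ P := fun x hx => ⟨⟨x, hg hx⟩, hEO hx, rfl⟩
    have hPp : IsPGroup p P := (IsPGroup.of_card hj).map H.subtype
    have hPq : ∀ x ∈ P, q₀ * x * q₀⁻¹ ∈ P := by
      rintro _ ⟨y, hy, rfl⟩
      exact ⟨⟨q₀, hQH hq₀⟩ * y * ⟨q₀, hQH hq₀⟩⁻¹, ‹O.Normal›.conj_mem y hy _, rfl⟩
    obtain ⟨K, hKP, hKc, hKV⟩ := exists_hyperplane_pGroup hS hp5 (P.map φ) (hPp.map φ) (by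
      rintro _ ⟨x, hx, rfl⟩
      exact ⟨q₀ * x * q₀⁻¹, hPq x hx, by rw [map_mul, map_mul, map_inv]⟩)
    obtain ⟨F, hF⟩ := exists_trim (W := Subgroup.centralizer ((⁅Q, M⁆ : Subgroup S) : Set S)) hE'e hE'3.ge
      (inf_le_left : E' ⊓ K.comap φ ≤ E') (card_le_mul_inf_comap φ (Subgroup.map_mono hE'P) hKP hKc)
      (inf_le_right.trans (hcent hKV))
    exact ⟨p, F, hp, hp2, hF⟩
  · obtain ⟨A₀, hA₀c, hA₀p, hA₀⟩ : ∃ A : Subgroup S, IsMulCommutative A ∧ (∀ a ∈ A, a ^ 3 = 1) ∧
        3 ^ 2 < Nat.card A := by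
      simpa [Cfsg.PRankLE, not_le] using hr3
    obtain ⟨T, hQT⟩ := hQ3.exists_le_sylow
    have hA₀3 : IsPGroup 3 A₀ := fun x => ⟨1, by rw [pow_one]; exact Subtype.ext (hA₀p x x.2)⟩
    obtain ⟨T₀, hT₀⟩ := hA₀3.exists_le_sylow
    obtain ⟨g, hg⟩ := MulAction.exists_smul_eq S T₀ T
    set A₁ : Subgroup (T : Subgroup S) := (MulAut.conj g • A₀).subgroupOf (T : Subgroup S) with hA₁def
    have hle : MulAut.conj g • A₀ ≤ (T : Subgroup S) := by
      rw [← hg]
      exact Subgroup.pointwise_smul_le_pointwise_smul_iff.2 hT₀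
    haveI := hA₀c
    have hA₁c : IsMulCommutative A₁ := .of_setLike_mul_comm fun x hx y hy => by
      obtain ⟨x', hx', hxe⟩ := Subgroup.mem_subgroupOf.1 hx
      obtain ⟨y', hy', hye⟩ := Subgroup.mem_subgroupOf.1 hy
      apply Subtype.ext
      rw [Subgroup.coe_mul, Subgroup.coe_mul, ← hxe, ← hye]
      show MulAut.conj g x' * MulAut.conj g y' = MulAut.conj g y' * MulAut.conj g x'
      rw [← map_mul, ← map_mul]
      exact congrArg _ (congrArg Subtype.val (mul_comm' (⟨x', hx'⟩ : A₀) ⟨y', hy'⟩))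
    have hA₁p : ∀ f ∈ A₁, f ^ 3 = 1 := fun f hf => by
      obtain ⟨x', hx', hxe⟩ := Subgroup.mem_subgroupOf.1 hf
      apply Subtype.ext
      rw [Subgroup.coe_pow, ← hxe]
      show (MulAut.conj g x') ^ 3 = 1
      rw [← map_pow, hA₀p x' hx', map_one]
    have hA₁ : 3 ^ 2 < Nat.card A₁ := by
      rw [hA₁def, Nat.card_congr (Subgroup.subgroupOfEquivOfLe hle).toEquiv,
        ← Nat.card_congr (Subgroup.equivSMul _ A₀).toEquiv]
      exact hA₀
    obtain ⟨A, hAn, hAe, -, hA3⟩ := OddOrder.OmegaCen.exists_normal_elementary_three (p := 3) (by norm_num)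
      T.isPGroup' A₁ hA₁c hA₁p hA₁ ⊥ ⟨inferInstance, fun x hx => by rw [Subgroup.mem_bot.1 hx, one_pow]⟩
    set A' : Subgroup S := A.map (T : Subgroup S).subtype with hA'def
    haveI := hAe.1
    have hA'e : Cfsg.IsElementaryAbelian 3 A' := ⟨.of_setLike_mul_comm (by
        rintro _ ⟨x, hx, rfl⟩ _ ⟨y, hy, rfl⟩
        rw [← map_mul, ← map_mul]
        exact congrArg _ (congrArg Subtype.val (mul_comm' (⟨x, hx⟩ : A) ⟨y, hy⟩))),
      by rintro _ ⟨x, hx, rfl⟩; rw [← map_pow, hAe.2 x hx, map_one]⟩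
    have hA'3 : 3 ^ 3 ≤ Nat.card A' := by
      rw [hA'def, Subgroup.card_map_of_injective (T : Subgroup S).subtype_injective]; exact hA3
    obtain ⟨K, hKA, hKc, hKV⟩ := exists_hyperplane hS Nat.prime_three (by norm_num) (A'.map φ)
      (by
        rintro _ ⟨x, hx, rfl⟩ _ ⟨y, hy, rfl⟩
        haveI := hA'e.1
        rw [← map_mul, ← map_mul]
        exact congrArg _ (congrArg Subtype.val (mul_comm' (⟨x, hx⟩ : A') ⟨y, hy⟩)))
      (by rintro _ ⟨x, hx, rfl⟩; rw [← map_pow, hA'e.2 x hx, map_one])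
      (by
        rintro _ ⟨_, ⟨y, hy, rfl⟩, rfl⟩
        refine ⟨q₀ * (y : S) * q₀⁻¹, ⟨⟨q₀, hQT hq₀⟩ * y * ⟨q₀, hQT hq₀⟩⁻¹, hAn.conj_mem y hy _, rfl⟩, ?_⟩
        rw [map_mul, map_mul, map_inv]
        rfl)
    obtain ⟨F, hF⟩ := exists_trim (W := Subgroup.centralizer ((⁅Q, M⁆ : Subgroup S) : Set S)) hA'e hA'3
      (inf_le_left : A' ⊓ K.comap φ ≤ A') (card_le_mul_inf_comap φ le_rfl hKA hKc)
      (inf_le_right.trans (hcent hKV))
    exact ⟨3, F, Nat.prime_three, by norm_num, hF⟩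

end Cfsg.Agent.FGStruct.FourMove
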